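import Groth.Agent.DubreilL.Forms
import Mathlib.LinearAlgebra.Dual.Lemmas

/-! Dubreil's bound on the number of generators of the ideal of points on a plane curve. -/

namespace DubreilLib

open MvPolynomial Module

universe u

variable {k : Type u} [Field k] {K : Type u} [Field K] [Algebra k K]

variable (K) in
/-- The span over `K` of a space of polynomials over `k`. -/
noncomputable def extSpan {σ : Type*} (V : Submodule k (MvPolynomial σ k)) : Submodule K (MvPolynomial σ K) :=
  Submodule.span K (MvPolynomial.map (algebraMap k K) '' (V : Set (MvPolynomial σ k)))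

theorem finrank_extSpan {σ : Type*} (V : Submodule k (MvPolynomial σ k)) [FiniteDimensional k V] :
    finrank K (extSpan K V) = finrank k V := by
  let b := Module.finBasis k V
  let B : Fin (finrank k V) → MvPolynomial σ K := fun i => MvPolynomial.map (algebraMap k K) (b i : MvPolynomial σ k)
  have hspan : extSpan K V = Submodule.span K (Set.range B) := by
    refine le_antisymm (Submodule.span_le.mpr ?_) (Submodule.span_mono ?_)
    · rintro _ ⟨f, hf, rfl⟩
      have hs : f = ∑ i, b.repr ⟨f, hf⟩ i • (b i : MvPolynomial σ k) := by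
        have := congrArg Subtype.val (b.sum_repr ⟨f, hf⟩)
        rw [AddSubmonoidClass.coe_finsetSum] at this
        exact this.symm
      rw [hs, map_sum]
      refine Submodule.sum_mem _ fun i _ => ?_
      rw [MvPolynomial.smul_eq_C_mul, map_mul, MvPolynomial.map_C, ← MvPolynomial.smul_eq_C_mul]
      exact Submodule.smul_mem _ _ (Submodule.subset_span ⟨i, rfl⟩)
    · rintro _ ⟨i, rfl⟩
      exact ⟨_, (b i).2, rfl⟩
  have hli : LinearIndependent K B := by
    rw [Fintype.linearIndependent_iff]
    intro c hc i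
    rw [← Module.forall_dual_apply_eq_zero_iff k]
    intro φ
    have : ∑ j, φ (c j) • (b j : MvPolynomial σ k) = 0 := by
      ext d
      have h := congrArg (fun p => φ (coeff d p)) hc
      simp only [coeff_sum, coeff_zero, map_zero, map_sum, B, MvPolynomial.coeff_smul, coeff_map, smul_eq_mul] at h
      rw [coeff_sum, coeff_zero, ← h]
      refine Finset.sum_congr rfl fun j _ => ?_
      rw [MvPolynomial.coeff_smul, smul_eq_mul, mul_comm (c j), ← Algebra.smul_def, map_smul, smul_eq_mul, mul_comm]
    have h2 : ∑ j, φ (c j) • b j = 0 := Subtype.ext (by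
      rw [AddSubmonoidClass.coe_finsetSum]; simpa using this)
    exact Fintype.linearIndependent_iff.mp b.linearIndependent _ h2 i
  rw [hspan, finrank_span_eq_card hli, Fintype.card_fin]

theorem extSpan_timesLinear {σ : Type*} (V : Submodule k (MvPolynomial σ k)) :
    extSpan K (timesLinear V) = timesLinear (extSpan K V) := by
  have hX : ∀ (i : σ) (f : MvPolynomial σ k), MvPolynomial.map (algebraMap k K) (X i * f) = X i * MvPolynomial.map (algebraMap k K) f := fun i f => by
    simp
  refine le_antisymm (Submodule.span_le.mpr ?_) (iSup_le fun i => ?_)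
  · rintro _ ⟨f, hf, rfl⟩
    show MvPolynomial.map (algebraMap k K) f ∈ timesLinear (extSpan K V)
    refine Submodule.iSup_induction _ (motive := fun f => MvPolynomial.map (algebraMap k K) f ∈ timesLinear (extSpan K V))
      hf ?_ ?_ ?_
    · rintro i _ ⟨g, hg, rfl⟩
      exact le_iSup (fun i => (extSpan K V).map (LinearMap.mulLeft K (X i))) i
        ⟨_, Submodule.subset_span ⟨g, hg, rfl⟩, (hX i g).symm⟩
    · simp
    · intro a b ha hb
      rw [map_add]; exact add_mem ha hb
  · rw [Submodule.map_le_iff_le_comap, extSpan, Submodule.span_le]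
    rintro _ ⟨g, hg, rfl⟩
    exact Submodule.subset_span ⟨X i * g, le_iSup (fun i => V.map (LinearMap.mulLeft k (X i))) i ⟨g, hg, rfl⟩, hX i g⟩

variable (K) in
/-- Points over the larger field. -/
noncomputable def pointsExt (Z : Finset (Fin 3 → k)) : Finset (Fin 3 → K) :=
  Z.map ⟨fun p i => algebraMap k K (p i), fun p q h => funext fun i => (algebraMap k K).injective (congrFun h i)⟩

theorem extSpan_forms (Z : Finset (Fin 3 → k)) (e : ℕ) :
    extSpan K (forms (Z : Set (Fin 3 → k)) e) = forms (pointsExt K Z : Set (Fin 3 → K)) e := by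
  classical
  refine le_antisymm (Submodule.span_le.mpr ?_) ?_
  · rintro _ ⟨f, hf, rfl⟩
    obtain ⟨h1, h2⟩ := mem_forms.mp hf
    refine mem_forms.mpr ⟨h1.map _, fun p hp => ?_⟩
    obtain ⟨q, hq, rfl⟩ := Finset.mem_map.mp hp
    show eval (fun i => algebraMap k K (q i)) (MvPolynomial.map (algebraMap k K) f) = 0
    rw [eval_map, show (fun i => algebraMap k K (q i)) = algebraMap k K ∘ q from rfl, ← eval₂_comp,
      h2 q hq, map_zero]
  · intro f hf
    obtain ⟨h1, h2⟩ := mem_forms.mp hf
    let B := Module.Basis.ofVectorSpace k K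
    let J := f.support.biUnion fun d => (B.repr (coeff d f)).support
    let g : _ → MvPolynomial (Fin 3) k := fun j => ∑ d ∈ f.support, monomial d (B.repr (coeff d f) j)
    have hsum : f = ∑ j ∈ J, B j • MvPolynomial.map (algebraMap k K) (g j) := by
      ext d
      simp only [coeff_sum, MvPolynomial.coeff_smul, coeff_map, smul_eq_mul, g, coeff_monomial,
        Finset.sum_ite_eq']
      by_cases hd : d ∈ f.support
      · simp only [if_pos hd]
        conv_lhs => rw [← B.linearCombination_repr (coeff d f), Finsupp.linearCombination_apply,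
          Finsupp.sum_of_support_subset _ (Finset.subset_biUnion_of_mem
            (fun d => (B.repr (coeff d f)).support) hd) (fun i a => a • B i) (fun _ _ => zero_smul k _)]
        exact Finset.sum_congr rfl fun j _ => by rw [Algebra.smul_def, mul_comm]
      · simp only [if_neg hd, map_zero, mul_zero, Finset.sum_const_zero]
        exact notMem_support_iff.mp hd
    rw [hsum]
    refine Submodule.sum_mem _ fun j _ => Submodule.smul_mem _ _ (Submodule.subset_span ⟨g j, ?_, rfl⟩)
    refine mem_forms.mpr ⟨IsHomogeneous.sum _ _ _ fun d hd => isHomogeneous_monomial _ ?_, fun p hp => ?_⟩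
    · have := h1 (mem_support_iff.mp hd)
      rw [Finsupp.degree_eq_weight_one]; exact this
    · let φ : K →ₗ[k] k := B.coord j
      have h := congrArg φ (h2 (fun i => algebraMap k K (p i)) (Finset.mem_map.mpr ⟨p, hp, rfl⟩))
      rw [eval_eq, map_sum, map_zero] at h
      simp only [g, map_sum, eval_monomial]
      rw [← h]
      refine Finset.sum_congr rfl fun d _ => ?_
      have hp' : (∏ i ∈ d.support, (algebraMap k K (p i)) ^ d i) = algebraMap k K (d.prod fun i e => p i ^ e) := by
        simp [Finsupp.prod, map_prod]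
      rw [hp', mul_comm, mul_comm (coeff d f), ← Algebra.smul_def, map_smul, smul_eq_mul]
      rfl

theorem bounds (Z : Finset (Fin 3 → k)) (hZ : ∀ p ∈ Z, p ≠ 0) (e : ℕ) (hne : forms (Z : Set (Fin 3 → k)) e ≠ ⊥) :
    2 * finrank k (forms (Z : Set (Fin 3 → k)) e) + 1 ≤ finrank k (timesLinear (forms (Z : Set (Fin 3 → k)) e)) +
        (if e = 0 then 0 else finrank k (forms (Z : Set (Fin 3 → k)) (e - 1))) ∧
      finrank k (forms (Z : Set (Fin 3 → k)) e) ≤
        (if e = 0 then 0 else finrank k (forms (Z : Set (Fin 3 → k)) (e - 1))) + (e + 1) := by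
  haveI : FiniteDimensional k (timesLinear (forms (Z : Set (Fin 3 → k)) e)) := by unfold timesLinear; infer_instance
  let K := AlgebraicClosure k
  have hne' : forms (pointsExt K Z : Set (Fin 3 → K)) e ≠ ⊥ := by
    rw [← extSpan_forms]
    intro h
    have := finrank_extSpan (K := K) (forms (Z : Set (Fin 3 → k)) e)
    rw [h, finrank_bot] at this
    exact hne (Submodule.finrank_eq_zero.mp this.symm)
  have hZ' : ∀ p ∈ pointsExt K Z, p ≠ 0 := by
    intro p hp h
    obtain ⟨q, hq, rfl⟩ := Finset.mem_map.mp hp
    exact hZ q hq (funext fun i => (algebraMap k K).injective ((congrFun h i).trans (map_zero _).symm))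
  have := growth (pointsExt K Z) hZ' e hne'
  have hT : finrank K (timesLinear (forms (pointsExt K Z : Set (Fin 3 → K)) e)) =
      finrank k (timesLinear (forms (Z : Set (Fin 3 → k)) e)) := by
    rw [← extSpan_forms, ← extSpan_timesLinear, finrank_extSpan]
  have hF : ∀ m, finrank K (forms (pointsExt K Z : Set (Fin 3 → K)) m) = finrank k (forms (Z : Set (Fin 3 → k)) m) :=
    fun m => by rw [← extSpan_forms, finrank_extSpan]
  rw [hT, hF, hF] at this
  exact this

/-- Homogeneous generators up to degree `E`. -/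
theorem exists_gens (Z : Finset (Fin 3 → k)) (hZ : ∀ p ∈ Z, p ≠ 0) (α : ℕ)
    (hα : forms (Z : Set (Fin 3 → k)) α ≠ ⊥) (hmin : ∀ e < α, forms (Z : Set (Fin 3 → k)) e = ⊥) :
    ∀ n : ℕ, ∃ G : Finset (MvPolynomial (Fin 3) k), G.card ≤ α + 1 ∧
      (∀ g ∈ G, ∃ e, g ∈ forms (Z : Set (Fin 3 → k)) e) ∧
      (∀ e ≤ α + n, forms (Z : Set (Fin 3 → k)) e ≤ (Ideal.span (G : Set (MvPolynomial (Fin 3) k))).restrictScalars k) ∧
      G.card + (if α + n = 0 then 0 else finrank k (forms (Z : Set (Fin 3 → k)) (α + n - 1))) + (α + n) ≤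
        finrank k (forms (Z : Set (Fin 3 → k)) (α + n)) + α := by
  classical
  intro n
  induction n with
  | zero =>
    let b := Module.finBasis k (forms (Z : Set (Fin 3 → k)) α)
    refine ⟨Finset.univ.image fun i => (b i : MvPolynomial (Fin 3) k), ?_, ?_, ?_, ?_⟩
    · refine Finset.card_image_le.trans ?_
      have := (bounds Z hZ α hα).2
      rw [Finset.card_univ, Fintype.card_fin]
      rcases α with _ | α
      · simpa using this
      · have h0 : finrank k (forms (Z : Set (Fin 3 → k)) (α + 1 - 1)) = 0 := by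
          rw [hmin (α + 1 - 1) (by omega)]; exact finrank_bot k _
        rw [if_neg (Nat.succ_ne_zero α)] at this
        omega
    · intro g hg
      obtain ⟨i, -, rfl⟩ := Finset.mem_image.mp hg
      exact ⟨α, (b i).2⟩
    · intro e he
      rcases Nat.lt_or_ge e α with h | h
      · rw [hmin e h]; exact bot_le
      obtain rfl : e = α := by omega
      intro f hf
      have hs : f = ∑ i, b.repr ⟨f, hf⟩ i • (b i : MvPolynomial (Fin 3) k) := by
        have := congrArg Subtype.val (b.sum_repr ⟨f, hf⟩)
        rw [AddSubmonoidClass.coe_finsetSum] at this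
        exact this.symm
      rw [hs]
      exact Submodule.sum_mem _ fun i _ => Submodule.smul_mem _ _
        (Ideal.subset_span (Finset.mem_image.mpr ⟨i, Finset.mem_univ _, rfl⟩))
    · have : (Finset.univ.image fun i => (b i : MvPolynomial (Fin 3) k)).card ≤
          finrank k (forms (Z : Set (Fin 3 → k)) α) := Finset.card_image_le.trans (by simp)
      rcases α with _ | α
      · simpa using this
      · have h0 : finrank k (forms (Z : Set (Fin 3 → k)) (α + 1 + 0 - 1)) = 0 := by
          rw [hmin (α + 1 + 0 - 1) (by omega)]; exact finrank_bot k _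
        rw [if_neg (by omega)]
        simp only [Nat.add_zero] at h0 ⊢
        omega
  | succ n ih =>
    obtain ⟨G, hG1, hG2, hG3, hG4⟩ := ih
    set e := α + n
    have hene : forms (Z : Set (Fin 3 → k)) e ≠ ⊥ := by
      intro h
      have h0 : ∀ m, forms (Z : Set (Fin 3 → k)) (α + m) ≠ ⊥ := by
        intro m
        induction m with
        | zero => exact hα
        | succ m ihm =>
          obtain ⟨f, hf, hf0⟩ := Submodule.exists_mem_ne_zero_of_ne_bot ihm
          refine (Submodule.ne_bot_iff _).mpr ⟨X 0 * f, timesLinear_le _ _ ?_, mul_ne_zero (X_ne_zero 0) hf0⟩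
          exact le_iSup (fun i => (forms (Z : Set (Fin 3 → k)) (α + m)).map (LinearMap.mulLeft k (X i))) 0 ⟨f, hf, rfl⟩
      exact h0 n h
    obtain ⟨hb1, -⟩ := bounds Z hZ e hene
    set U := timesLinear (forms (Z : Set (Fin 3 → k)) e) with hU
    have hUV : U ≤ (forms (Z : Set (Fin 3 → k)) (e + 1)) := timesLinear_le _ e
    obtain ⟨C, hC⟩ := Submodule.exists_isCompl (U.comap (forms (Z : Set (Fin 3 → k)) (e + 1)).subtype)
    haveI : FiniteDimensional k C := FiniteDimensional.finiteDimensional_submodule C
    haveI : Module.Free k C := Module.Free.of_basis (Module.Basis.ofVectorSpace k C)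
    let b := Module.finBasis k C
    let G' := Finset.univ.image fun i => ((b i : (forms (Z : Set (Fin 3 → k)) (e + 1))) : MvPolynomial (Fin 3) k)
    have hdim : G'.card + finrank k U ≤ finrank k (forms (Z : Set (Fin 3 → k)) (e + 1)) := by
      have h1 := Submodule.finrank_add_eq_of_isCompl hC
      rw [(Submodule.comapSubtypeEquivOfLe hUV).finrank_eq] at h1
      have : G'.card ≤ finrank k C := Finset.card_image_le.trans (by simp)
      omega
    have hspan : (forms (Z : Set (Fin 3 → k)) (e + 1)) ≤ (Ideal.span ((G ∪ G' : Finset _) : Set (MvPolynomial (Fin 3) k))).restrictScalars k := by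
      intro f hf
      have hmem : (⟨f, hf⟩ : (forms (Z : Set (Fin 3 → k)) (e + 1))) ∈ U.comap (forms (Z : Set (Fin 3 → k)) (e + 1)).subtype ⊔ C := by rw [hC.sup_eq_top]; exact Submodule.mem_top
      obtain ⟨u, hu, c, hc, huc⟩ := Submodule.mem_sup.mp hmem
      have hf' : f = (u : MvPolynomial (Fin 3) k) + (c : MvPolynomial (Fin 3) k) := (congrArg Subtype.val huc).symm
      rw [hf']
      refine add_mem ?_ ?_
      · have hle : U ≤ (Ideal.span ((G ∪ G' : Finset _) : Set (MvPolynomial (Fin 3) k))).restrictScalars k := by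
          refine iSup_le fun i => ?_
          rintro _ ⟨g, hg, rfl⟩
          have := hG3 e le_rfl hg
          exact Ideal.mul_mem_left _ _ (Ideal.span_mono (by simp) this)
        exact hle hu
      · have hs := congrArg (fun x : C => ((x : (forms (Z : Set (Fin 3 → k)) (e + 1))) : MvPolynomial (Fin 3) k)) (b.sum_repr ⟨c, hc⟩)
        simp only [AddSubmonoidClass.coe_finsetSum] at hs
        rw [← hs]
        exact Submodule.sum_mem _ fun i _ => Submodule.smul_mem _ _ (Ideal.subset_span (by simp [G']))
    have hkey : (G ∪ G').card + finrank k (forms (Z : Set (Fin 3 → k)) e) + (e + 1) ≤ finrank k (forms (Z : Set (Fin 3 → k)) (e + 1)) + α := by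
      have := Finset.card_union_le G G'
      omega
    refine ⟨G ∪ G', ?_, ?_, ?_, ?_⟩
    · have hne' : (forms (Z : Set (Fin 3 → k)) (e + 1)) ≠ ⊥ := by
        obtain ⟨f, hf, hf0⟩ := Submodule.exists_mem_ne_zero_of_ne_bot hene
        exact (Submodule.ne_bot_iff _).mpr ⟨X 0 * f, hUV
          (le_iSup (fun i => (forms (Z : Set (Fin 3 → k)) e).map (LinearMap.mulLeft k (X i))) 0 ⟨f, hf, rfl⟩),
          mul_ne_zero (X_ne_zero 0) hf0⟩
      have hb2 := (bounds Z hZ (e + 1) hne').2
      rw [if_neg (Nat.succ_ne_zero e), Nat.add_sub_cancel] at hb2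
      omega
    · intro g hg
      rcases Finset.mem_union.mp hg with h | h
      · exact hG2 g h
      · obtain ⟨i, -, rfl⟩ := Finset.mem_image.mp h
        exact ⟨e + 1, (b i : (forms (Z : Set (Fin 3 → k)) (e + 1))).2⟩
    · intro e' he'
      rcases Nat.lt_or_ge e' (e + 1) with h | h
      · exact fun f hf => Ideal.span_mono (by simp) (hG3 e' (by omega) hf)
      · obtain rfl : e' = e + 1 := by omega
        exact hspan
    · rw [show α + (n + 1) = e + 1 from rfl, if_neg (Nat.succ_ne_zero e), Nat.add_sub_cancel]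
      exact hkey

theorem main (Z : Finset (Fin 3 → k)) (hZ : ∀ p ∈ Z, p ≠ 0) (I : Ideal (MvPolynomial (Fin 3) k))
    (hI : ∀ f, f ∈ I ↔ ∀ p ∈ Z, ∀ j : ℕ, eval p (homogeneousComponent j f) = 0) (d : ℕ)
    (hf : ∃ f ∈ I, IsHomogeneous f d ∧ f ≠ 0) : Submodule.spanFinrank I ≤ d + 1 := by
  classical
  have hmem : ∀ e f, f.IsHomogeneous e → (f ∈ I ↔ f ∈ forms (Z : Set (Fin 3 → k)) e) := by
    intro e f hfe
    rw [hI, mem_forms]
    refine ⟨fun h => ⟨hfe, fun p hp => ?_⟩, fun h p hp j => ?_⟩
    · have := h p hp e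
      rwa [homogeneousComponent_of_mem hfe, if_pos rfl] at this
    · rw [homogeneousComponent_of_mem hfe]
      split_ifs
      · exact h.2 p hp
      · exact map_zero _
  have hex : ∃ e, forms (Z : Set (Fin 3 → k)) e ≠ ⊥ := by
    obtain ⟨f, hfI, hfd, hf0⟩ := hf
    exact ⟨d, (Submodule.ne_bot_iff _).mpr ⟨f, (hmem d f hfd).mp hfI, hf0⟩⟩
  have hαd : Nat.find hex ≤ d := by
    refine Nat.find_le ?_
    obtain ⟨f, hfI, hfd, hf0⟩ := hf
    exact (Submodule.ne_bot_iff _).mpr ⟨f, (hmem d f hfd).mp hfI, hf0⟩
  obtain ⟨F, hF⟩ := (inferInstance : IsNoetherianRing (MvPolynomial (Fin 3) k)).noetherian I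
  obtain ⟨G, hG1, hG2, hG3, -⟩ := exists_gens Z hZ (Nat.find hex) (Nat.find_spec hex)
    (fun e he => by simpa using Nat.find_min hex he) (F.sup totalDegree)
  have hspan : Ideal.span (G : Set (MvPolynomial (Fin 3) k)) = I := by
    refine le_antisymm (Ideal.span_le.mpr fun g hg => ?_) ?_
    · obtain ⟨e, he⟩ := hG2 g hg
      exact (hmem e g (mem_forms.mp he).1).mpr he
    · rw [← hF]
      refine Submodule.span_le.mpr fun f hf' => ?_
      have hfI : f ∈ I := hF ▸ Submodule.subset_span hf'
      show f ∈ Ideal.span (G : Set (MvPolynomial (Fin 3) k))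
      rw [← sum_homogeneousComponent f]
      refine Ideal.sum_mem _ fun j hj => hG3 j ?_ ?_
      · have := Finset.le_sup (f := totalDegree) hf'
        have := Finset.mem_range.mp hj
        omega
      · exact mem_forms.mpr ⟨homogeneousComponent_isHomogeneous j f, fun p hp => (hI f).mp hfI p hp j⟩
  rw [← hspan]
  refine (Submodule.spanFinrank_span_le_ncard_of_finite (Finset.finite_toSet G)).trans ?_
  rw [Set.ncard_coe_finset]
  omega

end DubreilLib
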