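import Mathlib.RingTheory.MvPolynomial.Homogeneous
import Mathlib.RingTheory.MvPolynomial.WeightedHomogeneous
import Mathlib.RingTheory.Polynomial.Basic
import Mathlib.FieldTheory.IsAlgClosed.AlgebraicClosure
import Mathlib.FieldTheory.IsAlgClosed.Basic
import Mathlib.Algebra.MvPolynomial.Funext
import Mathlib.Algebra.MvPolynomial.NoZeroDivisors
import Mathlib.Algebra.MvPolynomial.Division
import Mathlib.Algebra.Module.SpanRank
import Mathlib.Tactic

/-! Forms in three variables vanishing at finitely many points: growth of dimensions. -/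

namespace DubreilLib

open MvPolynomial Module

universe u v

section

variable {k : Type u} [Field k]

/-- Forms of degree `e` vanishing on `Z`. -/
noncomputable def forms (Z : Set (Fin 3 → k)) (e : ℕ) : Submodule k (MvPolynomial (Fin 3) k) :=
  homogeneousSubmodule (Fin 3) k e ⊓ ⨅ p ∈ Z, LinearMap.ker (aeval (R := k) p).toLinearMap

theorem mem_forms {Z : Set (Fin 3 → k)} {e : ℕ} {f : MvPolynomial (Fin 3) k} :
    f ∈ forms Z e ↔ f.IsHomogeneous e ∧ ∀ p ∈ Z, eval p f = 0 := by
  simp [forms, coe_aeval_eq_eval]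

theorem finite_homogeneous {σ : Type*} [Finite σ] (e : ℕ) :
    Module.Finite k (homogeneousSubmodule σ k e) :=
  Module.Finite.iff_fg.mpr (homogeneousSubmodule_fg σ k e)

instance forms_finite (Z : Set (Fin 3 → k)) (e : ℕ) : FiniteDimensional k (forms Z e) :=
  haveI := finite_homogeneous (k := k) (σ := Fin 3) e
  Submodule.finiteDimensional_of_le inf_le_left

/-- Multiples by linear forms. -/
noncomputable def timesLinear {σ : Type*} (U : Submodule k (MvPolynomial σ k)) : Submodule k (MvPolynomial σ k) :=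
  ⨆ i, U.map (LinearMap.mulLeft k (X i))

theorem timesLinear_le (Z : Set (Fin 3 → k)) (e : ℕ) : timesLinear (forms Z e) ≤ forms Z (e + 1) := by
  refine iSup_le fun i => ?_
  rintro _ ⟨f, hf, rfl⟩
  obtain ⟨h1, h2⟩ := mem_forms.mp hf
  refine mem_forms.mpr ⟨?_, fun p hp => by simp [h2 p hp]⟩
  rw [add_comm]
  exact (isHomogeneous_X k i).mul h1

end

section Growth

variable {K : Type u} [Field K]

/-- Restriction to the plane `x i₀ = ∑ c j • x j`. -/
noncomputable def restr (i₀ : Fin 3) (c : Fin 2 → K) : MvPolynomial (Fin 3) K →ₐ[K] MvPolynomial (Fin 2) K :=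
  aeval (Fin.insertNth i₀ (∑ j, C (c j) * X j) X)

/-- The linear form cutting out the plane. -/
noncomputable def lin (i₀ : Fin 3) (c : Fin 2 → K) : MvPolynomial (Fin 3) K :=
  X i₀ - ∑ j, C (c j) * X (i₀.succAbove j)

theorem restr_lin (i₀ : Fin 3) (c : Fin 2 → K) : restr i₀ c (lin i₀ c) = 0 := by
  simp [restr, lin, map_sum]

theorem lin_dvd_of_restr (i₀ : Fin 3) (c : Fin 2 → K) {f : MvPolynomial (Fin 3) K} (h : restr i₀ c f = 0) :
    lin i₀ c ∣ f := by
  let s : MvPolynomial (Fin 2) K →ₐ[K] MvPolynomial (Fin 3) K := rename i₀.succAbove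
  suffices hs : ∀ g, lin i₀ c ∣ g - s (restr i₀ c g) by simpa [h] using hs f
  intro g
  induction g using MvPolynomial.induction_on with
  | C r => simp [restr, s]
  | add p q hp hq =>
    rw [map_add, map_add, add_sub_add_comm]
    exact dvd_add hp hq
  | mul_X p i hp =>
    have hX : lin i₀ c ∣ X i - s (restr i₀ c (X i)) := by
      rcases Fin.eq_self_or_eq_succAbove i₀ i with rfl | ⟨j, rfl⟩
      · exact ⟨1, by simp [restr, lin, s, map_sum]⟩
      · simp [restr, s]
    rw [map_mul, map_mul]
    have : p * X i - s (restr i₀ c p) * s (restr i₀ c (X i)) =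
        (p - s (restr i₀ c p)) * X i + s (restr i₀ c p) * (X i - s (restr i₀ c (X i))) := by ring
    rw [this]
    exact dvd_add (hp.mul_right _) (hX.mul_left _)

theorem restr_homogeneous (i₀ : Fin 3) (c : Fin 2 → K) {f : MvPolynomial (Fin 3) K} {e : ℕ}
    (h : f.IsHomogeneous e) : (restr i₀ c f).IsHomogeneous e := by
  have := h.aeval (n := 1) (Fin.insertNth i₀ (∑ j, C (c j) * X j) X : Fin 3 → MvPolynomial (Fin 2) K) ?_
  · simpa [restr] using this
  · intro i
    rcases Fin.eq_self_or_eq_succAbove i₀ i with rfl | ⟨j, rfl⟩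
    · rw [Fin.insertNth_apply_same]
      exact IsHomogeneous.sum _ _ _ fun j _ => (isHomogeneous_X K j).C_mul _
    · rw [Fin.insertNth_apply_succAbove]
      exact isHomogeneous_X K j

theorem finrank_timesLinear_binary {e : ℕ} (J : Submodule K (MvPolynomial (Fin 2) K))
    (hJ : J ≤ homogeneousSubmodule (Fin 2) K e) (hne : J ≠ ⊥) :
    finrank K J + 1 ≤ finrank K (timesLinear J) := by
  classical
  haveI := finite_homogeneous (k := K) (σ := Fin 2) e
  haveI : FiniteDimensional K J := Submodule.finiteDimensional_of_le hJ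
  haveI : FiniteDimensional K (timesLinear J) := by unfold timesLinear; infer_instance
  have hinj : Function.Injective (LinearMap.mulLeft K (X 0 : MvPolynomial (Fin 2) K)) :=
    fun a b h => mul_left_cancel₀ (X_ne_zero 0) h
  have hle : J.map (LinearMap.mulLeft K (X 0)) ≤ timesLinear J :=
    le_iSup (fun i => J.map (LinearMap.mulLeft K (X i))) 0
  have hfe : finrank K J = finrank K (J.map (LinearMap.mulLeft K (X 0))) :=
    (Submodule.equivMapOfInjective _ hinj J).finrank_eq
  rw [hfe, Nat.add_one_le_iff]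
  refine Submodule.finrank_lt_finrank_of_lt (lt_of_le_of_ne hle fun heq => hne ?_)
  have hstep : ∀ n : ℕ, ∀ g ∈ J, (X 0 : MvPolynomial (Fin 2) K) ^ n ∣ g := by
    intro n
    induction n with
    | zero => intro g _; simp
    | succ n ih =>
      intro g hg
      have h1 : X 1 * g ∈ J.map (LinearMap.mulLeft K (X 0)) := by
        rw [heq]
        exact le_iSup (fun i => J.map (LinearMap.mulLeft K (X i))) 1 ⟨g, hg, rfl⟩
      obtain ⟨g', hg', hgg⟩ := h1
      simp only [LinearMap.mulLeft_apply] at hgg
      have h2 : (X 0 : MvPolynomial (Fin 2) K) ^ (n + 1) ∣ X 1 * g := by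
        rw [← hgg, pow_succ']
        exact mul_dvd_mul_left _ (ih g' hg')
      refine (MvPolynomial.X_prime (i := (0 : Fin 2))).pow_dvd_of_dvd_mul_left (n + 1) ?_ h2
      intro hd
      obtain ⟨r, hr⟩ := hd
      have := congrArg (eval (![0, 1] : Fin 2 → K)) hr
      simp at this
  rw [Submodule.eq_bot_iff]
  intro g hg
  by_contra hg0
  obtain ⟨r, hr⟩ := hstep (e + 1) g hg
  have hr0 : r ≠ 0 := fun h => hg0 (by rw [hr, h, mul_zero])
  have := congrArg totalDegree hr
  rw [IsHomogeneous.totalDegree (hJ hg) hg0, totalDegree_mul_of_isDomain (pow_ne_zero _ (X_ne_zero 0)) hr0,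
    totalDegree_X_pow] at this
  omega

theorem finrank_binary_le {e : ℕ} (J : Submodule K (MvPolynomial (Fin 2) K))
    (hJ : J ≤ homogeneousSubmodule (Fin 2) K e) : finrank K J ≤ e + 1 := by
  classical
  let φ : MvPolynomial (Fin 2) K →ₗ[K] (Fin (e + 1) → K) :=
    LinearMap.pi fun i => lcoeff K (Finsupp.single 0 (i : ℕ) + Finsupp.single 1 (e - i))
  have hinj : Function.Injective (φ ∘ₗ J.subtype) := by
    rw [injective_iff_map_eq_zero]
    rintro ⟨g, hg⟩ h
    refine Subtype.ext ?_
    ext d
    by_contra hd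
    simp only [ZeroMemClass.coe_zero, coeff_zero] at hd
    have hde := hJ hg hd
    simp [Finsupp.weight_apply, Finsupp.sum_fintype, Fin.sum_univ_two] at hde
    have := congrFun h ⟨d 0, by omega⟩
    simp only [φ, LinearMap.comp_apply, LinearMap.pi_apply, Submodule.subtype_apply, lcoeff_apply,
      Pi.zero_apply] at this
    apply hd
    convert this using 2
    ext i; fin_cases i <;> simp <;> omega
  simpa using LinearMap.finrank_le_finrank_of_injective hinj

theorem finrank_eq_restr (Z : Set (Fin 3 → K)) (i₀ : Fin 3) (c : Fin 2 → K) {U : Submodule K (MvPolynomial (Fin 3) K)}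
    [FiniteDimensional K U] (e : ℕ) (hU : U ≤ forms Z (e + 1)) (hL : ∀ p ∈ Z, eval p (lin i₀ c) ≠ 0)
    (hsub : (forms Z e).map (LinearMap.mulLeft K (lin i₀ c)) ≤ U) :
    finrank K U = finrank K (U.map (restr i₀ c).toLinearMap) + finrank K (forms Z e) := by
  have hlh : (lin i₀ c).IsHomogeneous 1 :=
    (isHomogeneous_X K i₀).sub (IsHomogeneous.sum _ _ _ fun j _ => (isHomogeneous_X K _).C_mul _)
  have hl0 : lin i₀ c ≠ 0 := fun h => by
    have := congrArg (eval (Pi.single i₀ (1 : K))) h
    simp [lin, map_sum, Fin.succAbove_ne i₀] at this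
  have hker : LinearMap.ker ((restr i₀ c).toLinearMap.domRestrict U) =
      ((forms Z e).map (LinearMap.mulLeft K (lin i₀ c))).comap U.subtype := by
    ext ⟨f, hf⟩
    simp only [LinearMap.mem_ker, LinearMap.domRestrict_apply, AlgHom.toLinearMap_apply, Submodule.mem_comap,
      Submodule.subtype_apply, Submodule.mem_map, LinearMap.mulLeft_apply]
    constructor
    · intro h
      obtain ⟨g, rfl⟩ := lin_dvd_of_restr i₀ c h
      obtain ⟨h1, h2⟩ := mem_forms.mp (hU hf)
      refine ⟨g, mem_forms.mpr ⟨?_, fun p hp => ?_⟩, rfl⟩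
      · intro d hd
        by_contra hne
        have hcomp : homogeneousComponent (Finsupp.weight 1 d + 1) (lin i₀ c * g) = 0 := by
          refine homogeneousComponent_eq_zero' _ _ ?_
          intro d' hd'
          rw [Finsupp.degree_eq_weight_one, show Finsupp.weight (fun _ => 1) d' = e + 1 from h1 (mem_support_iff.mp hd')]
          omega
        have : lin i₀ c * homogeneousComponent (Finsupp.weight 1 d) g = 0 := by
          rw [← hcomp]
          conv_rhs => rw [← sum_homogeneousComponent g, Finset.mul_sum, map_sum]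
          rw [Finset.sum_eq_single (Finsupp.weight 1 d)]
          · rw [add_comm, homogeneousComponent_of_mem (hlh.mul (homogeneousComponent_isHomogeneous _ g)), if_pos rfl]
          · intro j _ hj
            rw [add_comm, homogeneousComponent_of_mem (hlh.mul (homogeneousComponent_isHomogeneous j g)),
              if_neg (by omega)]
          · intro hn
            rw [homogeneousComponent_eq_zero (Finsupp.weight 1 d) g (by simpa using hn), mul_zero, map_zero]
        have h0 := congrArg (coeff d) ((mul_eq_zero.mp this).resolve_left hl0)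
        rw [coeff_homogeneousComponent, if_pos (by rw [Finsupp.degree_eq_weight_one]; rfl), coeff_zero] at h0
        exact hd h0
      · have := h2 p hp
        rw [map_mul] at this
        exact (mul_eq_zero.mp this).resolve_left (hL p hp)
    · rintro ⟨g, -, rfl⟩
      rw [map_mul, restr_lin, zero_mul]
  have hinj : Function.Injective (LinearMap.mulLeft K (lin i₀ c)) := fun a b h => mul_left_cancel₀ hl0 h
  rw [← LinearMap.finrank_range_add_finrank_ker ((restr i₀ c).toLinearMap.domRestrict U), hker,
    LinearMap.range_domRestrict, (Submodule.comapSubtypeEquivOfLe hsub).finrank_eq,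
    ← LinearEquiv.finrank_eq (Submodule.equivMapOfInjective _ hinj (forms Z e))]

theorem exists_lin (Z : Finset (Fin 3 → K)) [Infinite K] (hZ : ∀ p ∈ Z, p ≠ 0) :
    ∃ i₀ : Fin 3, ∃ c : Fin 2 → K, ∀ p ∈ Z, eval p (lin i₀ c) ≠ 0 := by
  classical
  let P : MvPolynomial (Fin 3) K := (∏ p ∈ Z, ∑ i, C (p i) * X i) * X 0
  have hP : P ≠ 0 := by
    refine mul_ne_zero (Finset.prod_ne_zero_iff.mpr fun p hp h => hZ p hp (funext fun i => ?_)) (X_ne_zero 0)
    have := congrArg (eval (Pi.single i (1 : K))) h
    simpa [Pi.single_apply] using this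
  obtain ⟨l, hl⟩ : ∃ l, eval l P ≠ 0 := by
    by_contra h
    push Not at h
    exact hP (MvPolynomial.funext fun l => by simpa using h l)
  simp only [P, map_mul, map_prod, eval_X, mul_ne_zero_iff, Finset.prod_ne_zero_iff] at hl
  refine ⟨0, fun j => -(l j.succ / l 0), fun p hp h => hl.1 p hp ?_⟩
  simp only [lin, map_sub, map_sum, map_mul, eval_C, eval_X, Fin.zero_succAbove, Fin.sum_univ_two] at h
  simp only [map_sum, map_mul, eval_C, eval_X, Fin.sum_univ_three]
  have h0 := hl.2
  simp at h ⊢
  field_simp at h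
  linear_combination h

theorem descend (Z : Finset (Fin 3 → K)) (i₀ : Fin 3) (c : Fin 2 → K)
    (hL : ∀ p ∈ Z, eval p (lin i₀ c) ≠ 0) :
    ∀ e, forms (Z : Set (Fin 3 → K)) e ≠ ⊥ → (forms (Z : Set (Fin 3 → K)) e).map (restr i₀ c).toLinearMap = ⊥ → False := by
  intro e
  induction e with
  | zero =>
    intro hne hbot
    apply hne
    rw [Submodule.eq_bot_iff]
    intro f hf
    obtain ⟨r, rfl⟩ : ∃ r, f = C r :=
      ⟨_, totalDegree_eq_zero_iff_eq_C.mp (Nat.le_zero.mp (mem_forms.mp hf).1.totalDegree_le)⟩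
    have h : restr i₀ c (C r) ∈ (forms (Z : Set (Fin 3 → K)) 0).map (restr i₀ c).toLinearMap := ⟨_, hf, rfl⟩
    rw [hbot, Submodule.mem_bot] at h
    simpa [restr] using h
  | succ e ih =>
    intro hne hbot
    refine ih (fun h0 => hne ?_) ?_
    · have hLW : (forms (Z : Set (Fin 3 → K)) e).map (LinearMap.mulLeft K (lin i₀ c)) ≤ forms (Z : Set (Fin 3 → K)) (e + 1) := by
        rw [h0, Submodule.map_bot]; exact bot_le
      have := finrank_eq_restr (Z : Set (Fin 3 → K)) i₀ c e le_rfl hL hLW
      rw [hbot, h0, finrank_bot, finrank_bot] at this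
      exact Submodule.finrank_eq_zero.mp this
    · rw [Submodule.eq_bot_iff]
      rintro _ ⟨f, hf, rfl⟩
      have hm : restr i₀ c (X (i₀.succAbove 0) * f) ∈ (forms (Z : Set (Fin 3 → K)) (e + 1)).map (restr i₀ c).toLinearMap :=
        ⟨_, timesLinear_le _ e (le_iSup (fun i => (forms (Z : Set (Fin 3 → K)) e).map (LinearMap.mulLeft K (X i))) _
          ⟨f, hf, rfl⟩), rfl⟩
      rw [hbot, Submodule.mem_bot, map_mul] at hm
      exact (mul_eq_zero.mp hm).resolve_left (by simp [restr])

/-- Growth of the dimension of the space of vanishing forms. -/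
theorem growth [Infinite K] (Z : Finset (Fin 3 → K)) (hZ : ∀ p ∈ Z, p ≠ 0) (e : ℕ) (hne : forms (Z : Set (Fin 3 → K)) e ≠ ⊥) :
    2 * finrank K (forms (Z : Set (Fin 3 → K)) e) + 1 ≤
        finrank K (timesLinear (forms (Z : Set (Fin 3 → K)) e)) + (if e = 0 then 0 else finrank K (forms (Z : Set (Fin 3 → K)) (e - 1))) ∧
      finrank K (forms (Z : Set (Fin 3 → K)) e) ≤ (if e = 0 then 0 else finrank K (forms (Z : Set (Fin 3 → K)) (e - 1))) + (e + 1) := by
  obtain ⟨i₀, c, hL⟩ := exists_lin Z hZ
  haveI : FiniteDimensional K (timesLinear (forms (Z : Set (Fin 3 → K)) e)) := by unfold timesLinear; infer_instance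
  set J := (forms (Z : Set (Fin 3 → K)) e).map (restr i₀ c).toLinearMap
  have hJh : J ≤ homogeneousSubmodule (Fin 2) K e := by
    rintro _ ⟨f, hf, rfl⟩
    exact restr_homogeneous i₀ c (mem_forms.mp hf).1
  have hLW : (forms (Z : Set (Fin 3 → K)) e).map (LinearMap.mulLeft K (lin i₀ c)) ≤ timesLinear (forms (Z : Set (Fin 3 → K)) e) := by
    rintro _ ⟨f, hf, rfl⟩
    have : lin i₀ c * f = X i₀ * f - ∑ j, c j • (X (i₀.succAbove j) * f) := by
      simp [lin, sub_mul, Finset.sum_mul, smul_eq_C_mul, mul_assoc]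
      ring
    rw [LinearMap.mulLeft_apply, this]
    refine sub_mem (le_iSup (fun i => (forms (Z : Set (Fin 3 → K)) e).map (LinearMap.mulLeft K (X i))) i₀ ⟨f, hf, rfl⟩)
      (Submodule.sum_mem _ fun j _ => Submodule.smul_mem _ _ ?_)
    exact le_iSup (fun i => (forms (Z : Set (Fin 3 → K)) e).map (LinearMap.mulLeft K (X i))) (i₀.succAbove j) ⟨f, hf, rfl⟩
  have hW : finrank K (forms (Z : Set (Fin 3 → K)) e) = finrank K J + (if e = 0 then 0 else finrank K (forms (Z : Set (Fin 3 → K)) (e - 1))) := by
    rcases e with _ | e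
    · simp only [if_true, add_zero]
      have hinj : Function.Injective ((restr i₀ c).toLinearMap.domRestrict (forms (Z : Set (Fin 3 → K)) 0)) := by
        rw [injective_iff_map_eq_zero]
        rintro ⟨f, hf⟩ h
        obtain ⟨r, rfl⟩ : ∃ r, f = C r := ⟨_, totalDegree_eq_zero_iff_eq_C.mp
          (Nat.le_zero.mp (mem_forms.mp hf).1.totalDegree_le)⟩
        have : C r = (0 : MvPolynomial (Fin 2) K) := by simpa [restr] using h
        exact Subtype.ext (by simpa using this)
      have := LinearMap.finrank_range_of_inj hinj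
      rw [LinearMap.range_domRestrict] at this
      exact this.symm
    · simp only [Nat.succ_ne_zero, if_false, Nat.add_sub_cancel]
      refine finrank_eq_restr (Z : Set (Fin 3 → K)) i₀ c e le_rfl hL ?_
      rintro _ ⟨f, hf, rfl⟩
      obtain ⟨h1, h2⟩ := mem_forms.mp hf
      refine mem_forms.mpr ⟨?_, fun p hp => by simp [h2 p hp]⟩
      rw [add_comm]
      exact (show (lin i₀ c).IsHomogeneous 1 from
        (isHomogeneous_X K i₀).sub (IsHomogeneous.sum _ _ _ fun j _ => (isHomogeneous_X K _).C_mul _)).mul h1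
  refine ⟨?_, by have := finrank_binary_le J hJh; omega⟩
  have hT := finrank_eq_restr (Z : Set (Fin 3 → K)) i₀ c e (timesLinear_le _ e) hL hLW
  have hJne : J ≠ ⊥ := by
    intro hbot
    apply hne
    by_contra hW0
    -- every form would be divisible by the linear form
    have hJ0 : finrank K J = 0 := by rw [hbot]; exact finrank_bot K _
    rcases e with _ | e
    · simp only [if_true, add_zero] at hW
      exact hW0 (Submodule.finrank_eq_zero.mp (by omega))
    · exact descend Z i₀ c hL (e + 1) hW0 hbot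
  have hmap : timesLinear J ≤ (timesLinear (forms (Z : Set (Fin 3 → K)) e)).map (restr i₀ c).toLinearMap := by
    refine iSup_le fun j => ?_
    rintro _ ⟨_, ⟨f, hf, rfl⟩, rfl⟩
    refine ⟨X (i₀.succAbove j) * f, le_iSup (fun i => (forms (Z : Set (Fin 3 → K)) e).map (LinearMap.mulLeft K (X i))) _ ⟨f, hf, rfl⟩, ?_⟩
    simp [restr]
  have hb := finrank_timesLinear_binary J hJh hJne
  have := Submodule.finrank_mono hmap
  omega

end Growth

end DubreilLib
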